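import Groth.Agent.RGLib.GenPFlatDim
import Groth.Agent.RGLib.Lim8Flat
import Groth.Agent.FibDim.Semicont
import Mathlib.AlgebraicGeometry.AffineTransitionLimit

/-!
Flatness in dimensions at least `n` is limit preserving.
-/

set_option autoImplicit false
set_option linter.style.haveILetI false
set_option backward.isDefEq.respectTransparency false
set_option backward.isDefEq.respectTransparency.types false

universe u

open CategoryTheory CategoryTheory.Limits AlgebraicGeometry Opposite TopologicalSpace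

namespace Groth.Agent.GenPDimLim

open Groth.Agent Groth.Agent.RGLib

/-- The points above the `n`-dimensional part of the fibres of a closed subset form a closed set. -/
theorem isClosed_dimGE {Y T : Scheme.{u}} (q : Y ⟶ T) [LocallyOfFiniteType q] {N : Set Y} (hN : IsClosed N)
    (n : ℕ) : IsClosed {z : Y | ∃ w, w ⤳ z ∧ q w = q z ∧ w ∈ N ∧ n ≤ FibDim.rd q w} := by
  let I := Scheme.IdealSheafData.vanishingIdeal ⟨N, hN⟩
  let j := I.subschemeι
  have hrange : Set.range j = N := by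
    rw [Scheme.IdealSheafData.range_subschemeι, Scheme.IdealSheafData.coe_support_vanishingIdeal]
    rfl
  have hrd : ∀ w, FibDim.rd (j ≫ q) w = FibDim.rd q (j w) := fun w => by
    have h0 : FibDim.rd j w = 0 := by
      have := FibDim.rd_eq_rdeg j w
      rw [VarDim.rdeg_preimmersion] at this
      exact_mod_cast this
    rw [FibDim.rd_comp, h0, add_zero]
  convert j.isClosedMap _ (FibDim.isClosed_le_fibreDimAt (j ≫ q) n) using 1
  ext z
  constructor
  · rintro ⟨w, hwz, hqw, hwN, hn⟩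
    obtain ⟨z', rfl⟩ : z ∈ Set.range j := hrange ▸ hwz.mem_closed hN hwN
    obtain ⟨w', rfl⟩ : w ∈ Set.range j := hrange ▸ hwN
    refine ⟨z', ?_, rfl⟩
    have hsp : w' ⤳ z' := j.isEmbedding.isInducing.specializes_iff.1 hwz
    refine le_trans ?_ (FibDim.rd_le_fibreDimAt (j ≫ q) hsp (by
      rw [Scheme.Hom.comp_apply, Scheme.Hom.comp_apply]; exact hqw))
    rw [hrd]
    exact_mod_cast hn
  · rintro ⟨z', hz', rfl⟩
    obtain ⟨w, hw, hqw, he, -⟩ := FibDim.exists_fibreDimAt_eq (j ≫ q) z'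
    refine ⟨j w, hw.map j.continuous, by rw [← Scheme.Hom.comp_apply, ← Scheme.Hom.comp_apply]; exact hqw,
      hrange ▸ ⟨w, rfl⟩, ?_⟩
    simp only [Set.mem_ofPred_eq, he, hrd] at hz'
    exact_mod_cast hz'

variable {S X : Scheme.{u}} (f : X ⟶ S) (F : X.Modules)

/-- Flatness of the base change passes along a map. -/
theorem flat_of_image [Coh.IsQCoh F] {T T₀ : Over S} (g : T ⟶ T₀) (x : ↥(pullback f T.hom))
    (h : FlatMod.IsFlatOverAt (PicF.XTproj f T₀) (FGA.ET f F T₀) (Lim8.bcMap f g x)) :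
    FlatMod.IsFlatOverAt (PicF.XTproj f T) (FGA.ET f F T) x :=
  GrFlat5.isFlatOverAt_of_iso _ ((Scheme.Modules.pullbackComp (Lim8.bcMap f g) (pullback.fst f T₀.hom) ≪≫
    Scheme.Modules.pullbackCongr (Lim8.bcMap_fst f g)).app F) x
    (MorLib.FlatBC.isFlatOverAt_baseChange _ _ (Lim8.bcMap f g) g.left (Lim8.bcMap_isPullback f g) _ x h)

variable {I : Type u} [SmallCategory I] [IsCofiltered I] (D : I ⥤ Over S) (c : Cone D)

/-- Flatness at a point of the limit holds at some stage. -/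
theorem exists_flat_stage [QuasiCompact f] [LocallyOfFinitePresentation f] [Coh.IsQCoh F] (hF : CohB1.IsFP F)
    (hc : IsLimit ((Over.forget S).mapCone c)) (hD : ∀ i, IsAffine (D.obj i).left)
    (x : ↥(pullback f c.pt.hom)) (h : FlatMod.IsFlatOverAt (PicF.XTproj f c.pt) (FGA.ET f F c.pt) x) :
    ∃ i, FlatMod.IsFlatOverAt (PicF.XTproj f (D.obj i)) (FGA.ET f F (D.obj i)) (Lim8.bcMap f (c.π.app i) x) := by
  obtain ⟨i₀⟩ := IsCofiltered.nonempty (C := I)
  let D' : I ⥤ Scheme.{u} := D ⋙ Over.forget S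
  haveI : ∀ i, IsAffine (D'.obj i) := hD
  haveI : ∀ (i j : I) (φ : i ⟶ j), IsAffineHom (D'.map φ) := fun i j φ => isAffineHom_of_isAffine _
  let p : pullback f (D.obj i₀).hom ⟶ X := pullback.fst f (D.obj i₀).hom
  let f₀ : pullback f (D.obj i₀).hom ⟶ D'.obj i₀ := pullback.snd f (D.obj i₀).hom
  let g₀ : D'.obj i₀ ⟶ D'.obj i₀ := 𝟙 _
  haveI : LocallyOfFinitePresentation f₀ := MorphismProperty.pullback_snd _ _ ‹_›
  let F₀ := (Scheme.Modules.pullback p).obj F
  have hq₀ : Coh.IsQCoh F₀ := QCoh.isQCoh_pullback p ‹_›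
  have hF₀ : CohB1.IsFP F₀ := Lim8.isFP_pullback p ‹_› hF
  let c' : Cone D' := (Over.forget S).mapCone c
  have hY : IsPullback (c'.π.app i₀) (𝟙 c'.pt) g₀ (c'.π.app i₀) :=
    haveI : IsIso (𝟙 c'.pt) := IsIso.id _
    haveI : IsIso g₀ := IsIso.id _
    IsPullback.of_vert_isIso ⟨(Category.comp_id _).trans (Category.id_comp _).symm⟩
  have hX : IsPullback (Lim8.bcMap f (c.π.app i₀)) (pullback.snd f c.pt.hom) f₀ (c'.π.app i₀) :=
    Lim8.bcMap_isPullback f (c.π.app i₀)
  have hfl : FlatMod.IsFlatOverAt (pullback.snd f c.pt.hom)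
      ((Scheme.Modules.pullback (Lim8.bcMap f (c.π.app i₀))).obj F₀) x :=
    GrFlat5.isFlatOverAt_of_iso _ ((Scheme.Modules.pullbackComp (Lim8.bcMap f (c.π.app i₀)) p ≪≫
      Scheme.Modules.pullbackCongr (Lim8.bcMap_fst f (c.π.app i₀))).app F).symm x h
  obtain ⟨j, hj⟩ := H1FlatLimit.exists_flatAt_stage (f₀ := f₀) hc hY hX hq₀ hF₀ x hfl
  refine ⟨j.left, ?_⟩
  let pY := pullback.fst g₀ (D'.map j.hom)
  let vY : D'.obj j.left ⟶ pullback g₀ (D'.map j.hom) :=
    pullback.lift (D'.map j.hom) (𝟙 _) ((Category.comp_id _).trans (Category.id_comp _).symm)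
  let vX : pullback f (D.obj j.left).hom ⟶ pullback f₀ pY :=
    pullback.lift (Lim8.bcMap f (D.map j.hom)) (pullback.snd f (D.obj j.left).hom ≫ vY) (by
      rw [Category.assoc, pullback.lift_fst]
      exact Lim8.bcMap_snd f (D.map j.hom))
  have hv : Lim8.bcMap f (c.π.app j.left) ≫ vX = H1FlatLimit.toStageX hY hX j := by
    refine pullback.hom_ext ?_ ?_
    · rw [H1FlatLimit.toStageX_fst, Category.assoc, pullback.lift_fst, ← Lim8.bcMap_comp, c.w]
    · rw [H1FlatLimit.toStageX_snd, Category.assoc, pullback.lift_snd, ← Category.assoc, Lim8.bcMap_snd,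
        Category.assoc]
      congr 1
      refine pullback.hom_ext ?_ ?_
      · rw [Category.assoc, pullback.lift_fst, H1FlatLimit.toStage_fst]
        exact c'.w j.hom
      · rw [Category.assoc, pullback.lift_snd, H1FlatLimit.toStage_snd]
        exact (Category.comp_id _).trans (Category.id_comp _).symm
  refine GrFlat5.isFlatOverAt_of_iso _ ((Scheme.Modules.pullbackComp (Lim8.bcMap f (D.map j.hom)) p ≪≫
    Scheme.Modules.pullbackCongr (Lim8.bcMap_fst f (D.map j.hom))).app F) _ ?_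
  refine H1FlatLimit.flatAt_of_stage (IsPullback.of_hasPullback f₀ pY) (Lim8.bcMap_isPullback f (D.map j.hom))
    (vX := vX) (vY := vY) (pullback.lift_fst _ _ _) (pullback.lift_fst _ _ _) (pullback.lift_snd _ _ _) hq₀ _ ?_
  rw [← Scheme.Hom.comp_apply, hv]
  exact hj

/-- Flatness in dimensions at least `n` is limit preserving. -/
theorem isLimitPreserving [QuasiCompact f] [LocallyOfFinitePresentation f] [Coh.IsQCoh F] (hF : CohB1.IsFP F)
    (n : ℕ) : AlgSp.IsLimitPreserving (FlatFun.genPSp S (fun T => FlatFun.DimFibresLT n (PicF.XTproj f T)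
        {x | ¬ FlatMod.IsFlatOverAt (PicF.XTproj f T) (FGA.ET f F T) x})) := by
  haveI hlft : ∀ T : Over S, LocallyOfFiniteType (PicF.XTproj f T) := GenPSheaf.lft_snd f
  refine Lim8.isLimitPreserving_genPSp _ (fun T T₀ g h => ?_) ?_
  · rw [GenPSheaf.dimFibresLT_iff] at h ⊢
    intro x hx
    exact (FibDim.rd_baseChange_le (Lim8.bcMap_isPullback f g) x).trans_lt
      (h (Lim8.bcMap f g x) fun hfl => hx (flat_of_image f F g x hfl))
  intro J _ _ D c hc hD h
  by_contra hbad
  simp only [not_exists, GenPSheaf.dimFibresLT_iff, not_forall, not_lt] at hbad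
  rw [GenPSheaf.dimFibresLT_iff] at h
  let q := fun i => PicF.XTproj f (D.obj i)
  have hopen : ∀ i, IsOpen {x | FlatMod.IsFlatOverAt (q i) (FGA.ET f F (D.obj i)) x} := fun i => by
    haveI : LocallyOfFinitePresentation (q i) := MorphismProperty.pullback_snd _ _ ‹_›
    haveI : Coh.IsQCoh (FGA.ET f F (D.obj i)) := QCoh.isQCoh_pullback _ ‹_›
    exact S4863.result _ _ (Lim8.isFP_pullback (pullback.fst f (D.obj i).hom) ‹_› hF)
  let N := fun i => {x | FlatMod.IsFlatOverAt (q i) (FGA.ET f F (D.obj i)) x}ᶜ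
  let E := fun i => {z | ∃ w, w ⤳ z ∧ q i w = q i z ∧ w ∈ N i ∧ n ≤ FibDim.rd (q i) w}
  haveI : ∀ {i j : J} (φ : i ⟶ j), IsAffineHom ((Lim8.bc f D).map φ) := fun φ => Lim8.isAffineHom_bc f D hD _ _ φ
  have hne : ∀ i, (E i).Nonempty := fun i => by
    obtain ⟨w, hw, hn⟩ := hbad i
    exact ⟨w, w, specializes_refl w, rfl, hw, hn⟩
  obtain ⟨hlim⟩ := Lim8.nonempty_isLimit_bcCone f D c hc
  obtain ⟨z, hz⟩ := exists_mem_of_isClosed_of_nonempty (Lim8.bc f D) (Lim8.bcCone f D c) hlim E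
    (fun i => isClosed_dimGE (q i) (hopen i).isClosed_compl n) hne
    (fun i => by
      haveI := Lim8.compactSpace_bc f D hD i
      exact (isClosed_dimGE (q i) (hopen i).isClosed_compl n).isCompact)
    (fun {i i'} φ w hw => by
      obtain ⟨v, hv, hqv, hvN, hvn⟩ := hw
      have hwsnd : ∀ a, q i' (Lim8.bcMap f (D.map φ) a) = (D.map φ).left (q i a) := fun a => by
        rw [← Scheme.Hom.comp_apply, Lim8.bcMap_snd, Scheme.Hom.comp_apply]
      refine ⟨Lim8.bcMap f (D.map φ) v, hv.map (Scheme.Hom.continuous _), ?_, fun hfl => hvN ?_, hvn.trans ?_⟩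
      · exact (hwsnd v).trans ((congrArg _ hqv).trans (hwsnd w).symm)
      · exact flat_of_image f F (D.map φ) v hfl
      · exact FibDim.rd_baseChange_le (Lim8.bcMap_isPullback f (D.map φ)) v)
  -- finitely many stages suffice on the fibre through `z`
  let qc := PicF.XTproj f c.pt
  let t := qc z
  haveI : IsLocallyNoetherian (qc.fiber t) := LocallyOfFiniteType.isLocallyNoetherian (qc.fiberToSpecResidueField t)
  haveI : QuasiCompact qc := MorphismProperty.pullback_snd _ _ ‹_›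
  haveI : CompactSpace ↥(qc.fiber t) := QuasiCompact.compactSpace_of_compactSpace (qc.fiberToSpecResidueField t)
  haveI : NoetherianSpace ↥(qc.fiber t) := by
    haveI : AlgebraicGeometry.IsNoetherian (qc.fiber t) := {}
    infer_instance
  let B : Set ↥(qc.fiber t) := {a | n ≤ FibDim.rd qc (qc.fiberι t a)}
  let Ω : J → Set ↥(qc.fiber t) := fun i =>
    (fun a => Lim8.bcMap f (c.π.app i) (qc.fiberι t a)) ⁻¹' (N i)ᶜ
  have hΩ : ∀ i, IsOpen (Ω i) := fun i => by
    have : IsOpen (N i)ᶜ := by rw [compl_compl]; exact hopen i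
    exact this.preimage ((Lim8.bcMap f (c.π.app i)).continuous.comp (qc.fiberι t).continuous)
  obtain ⟨s, hs⟩ := (NoetherianSpace.isCompact B).elim_finite_subcover Ω hΩ fun a ha => by
    obtain ⟨i, hi⟩ := exists_flat_stage f F D c hF hc hD (qc.fiberι t a)
      (by_contra fun hn => absurd (h _ hn) (not_lt.2 ha))
    exact Set.mem_iUnion.2 ⟨i, fun hn => hn hi⟩
  classical
  obtain ⟨k, hk⟩ := IsCofiltered.inf_objs_exists s
  obtain ⟨w, hwz, hqw, hwN, hwn⟩ := hz k
  have hzq : (c.π.app k).left t = q k (Lim8.bcMap f (c.π.app k) z) := by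
    show _ = (Lim8.bcMap f (c.π.app k) ≫ pullback.snd f (D.obj k).hom) z
    rw [Lim8.bcMap_snd]
    rfl
  obtain ⟨x', hx', hqx', hrd⟩ := FibDim.exists_rd_baseChange_eq (Lim8.bcMap_isPullback f (c.π.app k)) w t
    (hqw.trans hzq.symm)
  obtain ⟨a, rfl⟩ : x' ∈ Set.range (qc.fiberι t) := by rw [Scheme.Hom.range_fiberι]; exact hqx'
  obtain ⟨i, hi, hai⟩ := Set.mem_iUnion₂.1 (hs (show a ∈ B from le_trans hwn hrd.ge))
  obtain ⟨φ⟩ := hk hi
  apply hwN
  rw [← hx']
  refine flat_of_image f F (D.map φ) _ ?_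
  rw [← Scheme.Hom.comp_apply, ← Lim8.bcMap_comp, c.w]
  exact not_not.1 hai

end Groth.Agent.GenPDimLim
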